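import Groth.Agent.Lib.Regular45.QuasiReg
import Groth.Agent.Lib.Regular.Quotient
import Mathlib.RingTheory.RegularLocalRing.Defs
import Mathlib.RingTheory.Localization.FractionRing
import Mathlib.RingTheory.Polynomial.Basic
import Mathlib.RingTheory.Adjoin.FG

/-!
The chart `A[f₁/f₀, …, f_c/f₀]` of the blow-up of a regular local ring at its maximal ideal and its
map to the polynomial ring over the residue field.
-/

universe u
set_option autoImplicit false

open IsLocalRing CAlgX

namespace Groth.Agent.H34.OrdVal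

noncomputable section

theorem aeval_smul_eq {R S : Type*} [CommRing R] [CommRing S] [Algebra R S] {σ : Type*} (g : σ → S)
    (t : S) {n : ℕ} {P : MvPolynomial σ R} (hP : P.IsHomogeneous n) :
    MvPolynomial.aeval (fun i => g i * t) P = MvPolynomial.aeval g P * t ^ n := by
  rw [P.as_sum, map_sum, map_sum, Finset.sum_mul]
  refine Finset.sum_congr rfl fun d hd => ?_
  have hdn := hP (MvPolynomial.mem_support_iff.1 hd)
  rw [Finsupp.weight_apply] at hdn
  simp only [Pi.one_apply, smul_eq_mul, mul_one] at hdn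
  rw [MvPolynomial.aeval_monomial, MvPolynomial.aeval_monomial, mul_assoc]
  congr 1
  simp only [Finsupp.prod, mul_pow, Finset.prod_mul_distrib, Finset.prod_pow_eq_pow_sum]
  rw [← hdn]
  rfl

variable {A : Type u} [CommRing A] [IsLocalRing A] {c : ℕ} (f : Fin (c + 1) → A)

/-- Dehomogenisation. -/
def deh : MvPolynomial (Fin (c + 1)) (ResidueField A) →ₐ[ResidueField A]
    MvPolynomial (Fin c) (ResidueField A) :=
  MvPolynomial.aeval (Fin.cons 1 MvPolynomial.X)

/-- The reduced dehomogenisation. -/
def red : MvPolynomial (Fin (c + 1)) A →+* MvPolynomial (Fin c) (ResidueField A) :=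
  (deh (A := A) (c := c)).toRingHom.comp (MvPolynomial.map (residue A))

theorem red_X_zero : red (A := A) (c := c) (MvPolynomial.X 0) = 1 := by
  simp [red, deh]

theorem red_X_succ (i : Fin c) :
    red (A := A) (c := c) (MvPolynomial.X i.succ) = MvPolynomial.X i := by
  simp [red, deh]

theorem red_C (a : A) : red (A := A) (c := c) (MvPolynomial.C a) = MvPolynomial.C (residue A a) := by
  simp [red, deh]

theorem eq_zero_of_deh_eq_zero {n : ℕ} {P : MvPolynomial (Fin (c + 1)) (ResidueField A)}
    (hP : P.IsHomogeneous n) (h : deh P = 0) : P = 0 := by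
  let k := ResidueField A
  let Kf := FractionRing (MvPolynomial (Fin (c + 1)) k)
  let ι := IsScalarTower.toAlgHom k (MvPolynomial (Fin (c + 1)) k) Kf
  have hι : Function.Injective ι := IsFractionRing.injective _ Kf
  have hX0 : ι (MvPolynomial.X 0) ≠ 0 := fun h0 => MvPolynomial.X_ne_zero 0 (hι (h0.trans (map_zero ι).symm))
  let g : Fin (c + 1) → Kf := fun i => ι (MvPolynomial.X i) / ι (MvPolynomial.X 0)
  have h1 : MvPolynomial.aeval g P = 0 := by
    have : MvPolynomial.aeval g = (MvPolynomial.aeval fun i : Fin c => g i.succ).comp (deh (A := A) (c := c)) :=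
      MvPolynomial.algHom_ext fun i => by
        refine Fin.cases ?_ (fun j => ?_) i
        · simp [deh, g, div_self hX0]
        · simp [deh]
    rw [this, AlgHom.comp_apply, h, map_zero]
  have h2 := aeval_smul_eq g (ι (MvPolynomial.X 0)) hP
  rw [h1, zero_mul, show (fun i => g i * ι (MvPolynomial.X 0)) = fun i => ι (MvPolynomial.X i) from
    funext fun i => div_mul_cancel₀ _ hX0] at h2
  refine hι (Eq.trans ?_ (map_zero ι).symm)
  rw [← h2]
  exact DFunLike.congr_fun (MvPolynomial.aeval_unique ι) P

omit [IsLocalRing A] in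
theorem isHomogeneous_X_pow' (n : ℕ) :
    (MvPolynomial.X 0 ^ n : MvPolynomial (Fin (c + 1)) A).IsHomogeneous n := by
  simpa using (MvPolynomial.isHomogeneous_X A (0 : Fin (c + 1))).pow n

variable [IsDomain A] (K : Type u) [Field K] [Algebra A K] [IsFractionRing A K]

/-- The chart of the blow-up. -/
def chart : Subalgebra A K :=
  Algebra.adjoin A (Set.range fun i => algebraMap A K (f i) / algebraMap A K (f 0))

/-- An element of the chart together with its image in the polynomial ring. -/
def Rel (x : K) (y : MvPolynomial (Fin c) (ResidueField A)) : Prop :=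
  ∃ (n : ℕ) (P : MvPolynomial (Fin (c + 1)) A), P.IsHomogeneous n ∧
    x * algebraMap A K (f 0) ^ n = algebraMap A K (MvPolynomial.eval f P) ∧ red P = y

variable {f K}

theorem Rel.add {x x' : K} {y y' : MvPolynomial (Fin c) (ResidueField A)} (h : Rel f K x y)
    (h' : Rel f K x' y') : Rel f K (x + x') (y + y') := by
  obtain ⟨n, P, hP, hx, rfl⟩ := h
  obtain ⟨m, Q, hQ, hx', rfl⟩ := h'
  refine ⟨n + m, P * MvPolynomial.X 0 ^ m + Q * MvPolynomial.X 0 ^ n, ?_, ?_, ?_⟩
  · refine (hP.mul (isHomogeneous_X_pow' (A := A) m)).add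
      (Nat.add_comm m n ▸ hQ.mul (isHomogeneous_X_pow' (A := A) n))
  · simp only [map_add, map_mul, map_pow, MvPolynomial.eval_X]
    rw [← hx, ← hx', pow_add]
    ring
  · simp only [map_add, map_mul, map_pow, red_X_zero, one_pow, mul_one]

theorem Rel.mul {x x' : K} {y y' : MvPolynomial (Fin c) (ResidueField A)} (h : Rel f K x y)
    (h' : Rel f K x' y') : Rel f K (x * x') (y * y') := by
  obtain ⟨n, P, hP, hx, rfl⟩ := h
  obtain ⟨m, Q, hQ, hx', rfl⟩ := h'
  refine ⟨n + m, P * Q, hP.mul hQ, ?_, map_mul _ _ _⟩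
  rw [map_mul, map_mul, ← hx, ← hx', pow_add]
  ring

theorem rel_algebraMap (a : A) : Rel f K (algebraMap A K a) (MvPolynomial.C (residue A a)) :=
  ⟨0, MvPolynomial.C a, MvPolynomial.isHomogeneous_C _ _, by simp, red_C a⟩

variable (hf : IsQuasiRegular f) (hspan : Ideal.span (Set.range f) = maximalIdeal A) (hf0 : f 0 ≠ 0)

include hf hspan in
theorem Rel.unique {x : K} {y y' : MvPolynomial (Fin c) (ResidueField A)} (h : Rel f K x y)
    (h' : Rel f K x y') : y = y' := by
  obtain ⟨n, P, hP, hx, rfl⟩ := h
  obtain ⟨m, Q, hQ, hx', rfl⟩ := h'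
  let D := P * MvPolynomial.X 0 ^ m - Q * MvPolynomial.X 0 ^ n
  have hD : D.IsHomogeneous (n + m) := by
    refine MvPolynomial.IsHomogeneous.sub (hP.mul (isHomogeneous_X_pow' (A := A) m))
      (Nat.add_comm m n ▸ hQ.mul (isHomogeneous_X_pow' (A := A) n))
  have he : MvPolynomial.eval f D = 0 := IsFractionRing.injective A K (by
    simp only [D, map_sub, map_mul, map_pow, MvPolynomial.eval_X, map_zero]
    rw [← hx, ← hx']
    ring)
  have hmap : MvPolynomial.map (residue A) D = 0 := MvPolynomial.ext _ _ fun d => by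
    rw [MvPolynomial.coeff_map, MvPolynomial.coeff_zero, residue_eq_zero_iff, ← hspan]
    exact hf _ D hD (by rw [he]; exact zero_mem _) d
  have hred : red D = 0 := by rw [red, RingHom.comp_apply, hmap, map_zero]
  simp only [D, map_sub, map_mul, map_pow, red_X_zero, one_pow, mul_one] at hred
  exact sub_eq_zero.1 hred

include hf0 in
theorem rel_gen (i : Fin (c + 1)) :
    Rel f K (algebraMap A K (f i) / algebraMap A K (f 0)) (red (MvPolynomial.X i)) :=
  ⟨1, MvPolynomial.X i, MvPolynomial.isHomogeneous_X A i, by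
    rw [pow_one, MvPolynomial.eval_X, div_mul_cancel₀]
    exact fun h => hf0 (IsFractionRing.injective A K (h.trans (map_zero _).symm)), rfl⟩

include hf0 in
theorem exists_rel {x : K} (hx : x ∈ chart f K) : ∃ y, Rel f K x y := by
  induction hx using Algebra.adjoin_induction with
  | mem x hx => obtain ⟨i, rfl⟩ := hx; exact ⟨_, rel_gen hf0 i⟩
  | algebraMap r => exact ⟨_, rel_algebraMap r⟩
  | add x y _ _ hx hy => exact ⟨_, hx.choose_spec.add hy.choose_spec⟩
  | mul x y _ _ hx hy => exact ⟨_, hx.choose_spec.mul hy.choose_spec⟩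

include hf0 in
theorem mem_chart_of_mem_pow {n : ℕ} {a : A} (ha : a ∈ Ideal.span (Set.range f) ^ n) :
    algebraMap A K a / algebraMap A K (f 0) ^ n ∈ chart f K := by
  obtain ⟨P, hP, rfl⟩ := (Ideal.mem_span_pow_iff_exists_isHomogeneous f a).1 ha
  have hK : algebraMap A K (f 0) ≠ 0 := fun h =>
    hf0 (IsFractionRing.injective A K (h.trans (map_zero _).symm))
  have h := aeval_smul_eq (R := A) (fun i => algebraMap A K (f i) / algebraMap A K (f 0))
    (algebraMap A K (f 0)) hP
  simp only [div_mul_cancel₀ _ hK] at h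
  rw [show algebraMap A K (MvPolynomial.eval f P) = MvPolynomial.aeval (fun i => algebraMap A K (f i)) P from
    (MvPolynomial.aeval_algebraMap_apply (B := K) f P).symm, h, mul_div_assoc, div_self (pow_ne_zero n hK),
    mul_one, chart, Algebra.adjoin_range_eq_range_aeval]
  exact ⟨P, rfl⟩

/-- The map of the chart to the polynomial ring over the residue field. -/
def toPoly : chart f K →+* MvPolynomial (Fin c) (ResidueField A) where
  toFun x := (exists_rel hf0 x.2).choose
  map_one' := Rel.unique hf hspan (exists_rel hf0 (1 : chart f K).2).choose_spec (by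
    simpa using rel_algebraMap (f := f) (K := K) 1)
  map_zero' := Rel.unique hf hspan (exists_rel hf0 (0 : chart f K).2).choose_spec (by
    simpa using rel_algebraMap (f := f) (K := K) 0)
  map_add' x y := Rel.unique hf hspan (exists_rel hf0 (x + y).2).choose_spec
    ((exists_rel hf0 x.2).choose_spec.add (exists_rel hf0 y.2).choose_spec)
  map_mul' x y := Rel.unique hf hspan (exists_rel hf0 (x * y).2).choose_spec
    ((exists_rel hf0 x.2).choose_spec.mul (exists_rel hf0 y.2).choose_spec)

theorem toPoly_algebraMap (a : A) :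
    toPoly hf hspan hf0 (algebraMap A (chart f K) a) = MvPolynomial.C (residue A a) :=
  Rel.unique hf hspan (exists_rel hf0 (algebraMap A (chart f K) a).2).choose_spec (rel_algebraMap a)

/-- The generators of the chart. -/
def gen (i : Fin (c + 1)) : chart f K :=
  ⟨algebraMap A K (f i) / algebraMap A K (f 0), Algebra.subset_adjoin ⟨i, rfl⟩⟩

theorem toPoly_gen (i : Fin c) :
    toPoly hf hspan hf0 (gen (K := K) i.succ) = MvPolynomial.X i :=
  Rel.unique hf hspan (exists_rel hf0 (gen (K := K) i.succ).2).choose_spec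
    (red_X_succ (A := A) i ▸ rel_gen hf0 i.succ)

theorem toPoly_surjective : Function.Surjective (toPoly (K := K) hf hspan hf0) := by
  intro y
  induction y using MvPolynomial.induction_on with
  | C a =>
    obtain ⟨a, rfl⟩ := residue_surjective a
    exact ⟨_, toPoly_algebraMap hf hspan hf0 a⟩
  | add p q hp hq =>
    obtain ⟨a, rfl⟩ := hp
    obtain ⟨b, rfl⟩ := hq
    exact ⟨a + b, map_add _ _ _⟩
  | mul_X p i hp =>
    obtain ⟨a, rfl⟩ := hp
    exact ⟨a * gen i.succ, by rw [map_mul, toPoly_gen]⟩

theorem ker_toPoly :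
    RingHom.ker (toPoly (K := K) hf hspan hf0) = Ideal.span {algebraMap A (chart f K) (f 0)} := by
  refine le_antisymm (fun x hx => ?_) ?_
  · obtain ⟨n, P, hP, hxP, hred⟩ := (exists_rel hf0 x.2).choose_spec
    have h0 : red P = 0 := hred.trans hx
    have hmap := eq_zero_of_deh_eq_zero (hP.map (residue A)) h0
    have hmem : MvPolynomial.eval f P ∈ Ideal.span (Set.range f) ^ (n + 1) := by
      rw [pow_succ']
      refine Groth.Agent.Lib.Regular45.QuasiReg.eval_mem_mul_pow f _ hP fun d => ?_
      rw [hspan, ← residue_eq_zero_iff, ← MvPolynomial.coeff_map, hmap, MvPolynomial.coeff_zero]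
    have hK : algebraMap A K (f 0) ≠ 0 := fun h =>
      hf0 (IsFractionRing.injective A K (h.trans (map_zero _).symm))
    refine Ideal.mem_span_singleton.2 ⟨⟨_, mem_chart_of_mem_pow hf0 hmem⟩, Subtype.ext ?_⟩
    change (x : K) = algebraMap A K (f 0) *
      (algebraMap A K (MvPolynomial.eval f P) / algebraMap A K (f 0) ^ (n + 1))
    rw [← hxP, pow_succ]
    field_simp
  · rw [Ideal.span_le, Set.singleton_subset_iff, SetLike.mem_coe, RingHom.mem_ker, toPoly_algebraMap,
      (residue_eq_zero_iff _).2 (hspan ▸ Ideal.subset_span ⟨0, rfl⟩), map_zero]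

end

end Groth.Agent.H34.OrdVal
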